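import Groth.Prelude.Def_W4c5qcohlocdualityLoc
import Groth.Agent.InjHullCatLib.Basic

/-! Objects closed for the localizing closure. -/

set_option autoImplicit false
set_option linter.style.haveILetI false

universe w v u

open CategoryTheory Limits ZeroObject

namespace GabLocLib

variable {C : Type u} [Category.{v} C] [Abelian C]

theorem isClosedFor_mono {P Q : ObjectProperty C} (h : P ≤ Q) {M : C} (hM : GabLoc.IsClosedFor Q M) :
    GabLoc.IsClosedFor P M :=
  ⟨fun _ hY => hM.1 (h _ hY), fun _ _ i p hp hY => hM.2 i p hp (h _ hY)⟩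

theorem le_locClosure (P : ObjectProperty C) : P ≤ GabLoc.locClosure.{w} P :=
  fun _ hX _ _ h => h _ hX

/-- The class of objects without nonzero maps into an injective object is localizing. -/
theorem isLocalizing_hom_eq_zero {E E' : C} [Injective E] [Injective E'] :
    GabLoc.IsLocalizing.{w} (fun Y : C => (∀ f : Y ⟶ E, f = 0) ∧ ∀ f : Y ⟶ E', f = 0) := by
  set R : ObjectProperty C := fun Y : C => (∀ f : Y ⟶ E, f = 0) ∧ ∀ f : Y ⟶ E', f = 0
  haveI : R.ContainsZero := ⟨0, isZero_zero C, fun f => (isZero_zero C).eq_of_src f 0,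
    fun f => (isZero_zero C).eq_of_src f 0⟩
  haveI : R.IsClosedUnderSubobjects := ⟨fun {X Y} j _ hY =>
    ⟨fun f => by rw [← Injective.comp_factorThru f j, hY.1 (Injective.factorThru f j), comp_zero],
     fun f => by rw [← Injective.comp_factorThru f j, hY.2 (Injective.factorThru f j), comp_zero]⟩⟩
  haveI : R.IsClosedUnderQuotients := ⟨fun {X Y} q _ hX =>
    ⟨fun f => by rw [← cancel_epi q, hX.1 (q ≫ f), comp_zero],
     fun f => by rw [← cancel_epi q, hX.2 (q ≫ f), comp_zero]⟩⟩
  haveI : R.IsClosedUnderExtensions := ⟨fun {S} hS h₁ h₃ => by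
    haveI := hS.epi_g
    constructor
    · intro f
      rw [← hS.exact.g_desc f (h₁.1 _), h₃.1 (hS.exact.desc f (h₁.1 _)), comp_zero]
    · intro f
      rw [← hS.exact.g_desc f (h₁.2 _), h₃.2 (hS.exact.desc f (h₁.2 _)), comp_zero]⟩
  refine ⟨{ }, fun J => ⟨?_⟩⟩
  rintro X ⟨h⟩
  exact ⟨fun f => h.isColimit.hom_ext fun j => by rw [comp_zero]; exact (h.prop_diag_obj j).1 _,
    fun f => h.isColimit.hom_ext fun j => by rw [comp_zero]; exact (h.prop_diag_obj j).2 _⟩

variable [IsGrothendieckAbelian.{w} C]

/-- For a class closed under subobjects and quotients, being closed passes to the localizing closure. -/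
theorem isClosedFor_locClosure (P : ObjectProperty C) [P.IsClosedUnderSubobjects]
    [P.IsClosedUnderQuotients] {M : C} (hM : GabLoc.IsClosedFor P M) :
    GabLoc.IsClosedFor (GabLoc.locClosure.{w} P) M := by
  obtain ⟨E, i, hi, hE, hess⟩ := InjHullCatLib.exists_injectiveHull.{w} M
  obtain ⟨E', i', hi', hE', hess'⟩ := InjHullCatLib.exists_injectiveHull.{w} (cokernel i)
  have hPE : ∀ ⦃Y : C⦄, P Y → ∀ f : Y ⟶ E, f = 0 := fun Y hY f =>
    InjHullCatLib.eq_zero_of_isEssential hess P hM.1 hY f
  have hPcok : ∀ ⦃Y : C⦄, P Y → ∀ f : Y ⟶ cokernel i, f = 0 := by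
    intro Y hY f
    have hI : P (image f) := P.prop_of_epi (factorThruImage f) hY
    let t := image.ι f
    let k : M ⟶ pullback (cokernel.π i) t :=
      pullback.lift i 0 (by rw [cokernel.condition, zero_comp])
    have hk : k ≫ pullback.snd _ _ = 0 := pullback.lift_snd _ _ _
    have hkf : k ≫ pullback.fst _ _ = i := pullback.lift_fst _ _ _
    haveI : Mono k := mono_of_mono_fac hkf
    have hse : (ShortComplex.mk k (pullback.snd _ _) hk).ShortExact :=
      { exact := ShortComplex.exact_of_f_is_kernel _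
          (KernelFork.IsLimit.ofι' k hk fun {T} g hg =>
            ⟨Abelian.monoLift i (g ≫ pullback.fst _ _) (by
              rw [Category.assoc, pullback.condition, ← Category.assoc, hg, zero_comp]), by
              refine pullback.hom_ext ?_ ?_
              · rw [Category.assoc, hkf, Abelian.monoLift_comp]
              · rw [Category.assoc, hk, comp_zero, hg]⟩)
        mono_f := inferInstanceAs (Mono k)
        epi_g := inferInstanceAs (Epi (pullback.snd (cokernel.π i) t)) }
    haveI := hM.2 k (pullback.snd _ _) hk hI hse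
    haveI : Epi (ShortComplex.mk k (pullback.snd _ _) hk).g := hse.epi_g
    let spl := ShortComplex.Splitting.ofExactOfRetraction _ hse.exact (retraction k)
      (IsSplitMono.id k) inferInstance
    have ht : t = 0 := by
      have h1 : spl.s ≫ pullback.snd (cokernel.π i) t = 𝟙 _ := spl.s_g
      rw [← Category.id_comp t, ← h1, Category.assoc, ← pullback.condition, ← Category.assoc,
        hPE hI (spl.s ≫ pullback.fst (cokernel.π i) t), zero_comp]
    rw [← image.fac f, show image.ι f = 0 from ht, comp_zero]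
  have hPE' : ∀ ⦃Y : C⦄, P Y → ∀ f : Y ⟶ E', f = 0 := fun Y hY f =>
    InjHullCatLib.eq_zero_of_isEssential hess' P hPcok hY f
  have hle : ∀ {Y : C}, GabLoc.locClosure.{w} P Y →
      (∀ f : Y ⟶ E, f = 0) ∧ ∀ f : Y ⟶ E', f = 0 := fun hY =>
    hY _ isLocalizing_hom_eq_zero fun Z hZ => ⟨hPE hZ, hPE' hZ⟩
  constructor
  · intro Y hY f
    rw [← cancel_mono i, zero_comp]
    exact (hle hY).1 _
  · intro N Y j p hp hY hse
    haveI : Mono j := hse.mono_f
    haveI : Epi (ShortComplex.mk j p hp).g := hse.epi_g
    let g := Injective.factorThru i j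
    have hg : j ≫ g = i := Injective.comp_factorThru _ _
    have h0 : j ≫ g ≫ cokernel.π i = 0 := by rw [← Category.assoc, hg, cokernel.condition]
    have hu : hse.exact.desc (g ≫ cokernel.π i) h0 = 0 := by
      rw [← cancel_mono i', zero_comp]
      exact (hle hY).2 _
    have hgπ : g ≫ cokernel.π i = 0 := by
      rw [← hse.exact.g_desc (g ≫ cokernel.π i) h0, hu, comp_zero]
    refine IsSplitMono.mk' ⟨Abelian.monoLift i g hgπ, ?_⟩
    rw [← cancel_mono i, Category.assoc, Abelian.monoLift_comp, hg, Category.id_comp]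

end GabLocLib
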