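import Groth.Prelude.Def_W4c5qcohlocdualityLoc
import Groth.Agent.InjHullCatLib.Basic
import Mathlib

/-! Transfinite filtrations characterise the localizing closure. -/

set_option autoImplicit false
set_option linter.style.haveILetI false

universe w v u

open CategoryTheory Limits ZeroObject

namespace GabLocLib.Filtration

variable {C : Type u} [Category.{v} C] [Abelian C] [IsGrothendieckAbelian.{w} C] (P : ObjectProperty C)

lemma subquot_quot {A A' : C} (q : A ⟶ A') [Epi q] (h : GabLoc.subquotCoprod.{w} P A) :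
    GabLoc.subquotCoprod.{w} P A' := by
  obtain ⟨J, X, hX, B, i, p, hi, hp⟩ := h
  exact ⟨J, X, hX, B, i, p ≫ q, hi, epi_comp _ _⟩

lemma subquot_sub {A A' : C} (j : A' ⟶ A) [Mono j] (h : GabLoc.subquotCoprod.{w} P A) :
    GabLoc.subquotCoprod.{w} P A' := by
  obtain ⟨J, X, hX, B, i, p, hi, hp⟩ := h
  exact ⟨J, X, hX, pullback p j, pullback.fst p j ≫ i, pullback.snd p j, mono_comp _ _, inferInstance⟩

lemma subquot_of_isZero {A : C} (hA : IsZero A) : GabLoc.subquotCoprod.{w} P A := by
  refine ⟨PEmpty.{w + 1}, PEmpty.elim, fun j => j.elim, ∐ PEmpty.elim, 𝟙 _, 0, inferInstance, ?_⟩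
  exact ⟨fun g h _ => hA.eq_of_src g h⟩

lemma subquot_of_prop {A : C} (hA : P A) : GabLoc.subquotCoprod.{w} P A := by
  refine ⟨PUnit.{w + 1}, fun _ => A, fun _ => hA, ∐ fun _ : PUnit.{w + 1} => A, 𝟙 _,
    Sigma.desc fun _ => 𝟙 A, inferInstance, ?_⟩
  exact ⟨fun g h e => by simpa using Sigma.ι (fun _ : PUnit.{w + 1} => A) PUnit.unit ≫= e⟩

/-- every nonzero quotient has a nonzero subobject which is a subquotient -/
def Q : ObjectProperty C := fun X =>
  ∀ ⦃Z : C⦄ (q : X ⟶ Z), Epi q → ¬ IsZero Z →
    ∃ (N : C) (n : N ⟶ Z), Mono n ∧ ¬ IsZero N ∧ GabLoc.subquotCoprod.{w} P N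

lemma Q_quot {X Y : C} (q : X ⟶ Y) [Epi q] (h : Q.{w} P X) : Q.{w} P Y :=
  fun _ r _ hZ => h (q ≫ r) (epi_comp _ _) hZ

theorem Q_sub {X Y : C} (j : Y ⟶ X) [Mono j] (h : Q.{w} P X) : Q.{w} P Y := by
  intro Z q hq hZ
  obtain ⟨E, i, hi, hE, hess⟩ := InjHullCatLib.exists_injectiveHull.{w} Z
  let g := Injective.factorThru (q ≫ i) j
  have hg : j ≫ g = q ≫ i := Injective.comp_factorThru _ _
  have hI : ¬ IsZero (image g) := fun h0 => hZ (by
    have g0 : g = 0 := by rw [← image.fac g, h0.eq_of_tgt (factorThruImage g) 0, zero_comp]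
    have : q ≫ i = 0 := by rw [← hg, g0, comp_zero]
    have : q = 0 := by rw [← cancel_mono i, this, zero_comp]
    exact IsZero.of_epi_eq_zero q this)
  obtain ⟨N, n, hn, hN, hNS⟩ := h (factorThruImage g) inferInstance hI
  let m := n ≫ image.ι g
  refine ⟨pullback m i, pullback.snd m i, inferInstance, fun hz => hN ?_, subquot_sub P (pullback.fst m i) hNS⟩
  haveI : Mono (i ≫ cokernel.π m) := Preadditive.mono_of_cancel_zero _ fun {T} a ha => by
    rw [← Category.assoc] at ha
    let b := Abelian.monoLift m (a ≫ i) ha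
    have hb : b ≫ m = a ≫ i := Abelian.monoLift_comp _ _ _
    rw [← pullback.lift_snd b a hb, hz.eq_of_tgt (pullback.lift b a hb) 0, zero_comp]
  haveI := hess (cokernel.π m) inferInstance
  have hm : m = 0 := by rw [← cancel_mono (cokernel.π m), cokernel.condition, zero_comp]
  exact IsZero.of_mono_eq_zero m hm

theorem isLocalizing_Q : GabLoc.IsLocalizing.{w} (Q.{w} P) := by
  haveI : (Q.{w} P).ContainsZero :=
    ⟨0, isZero_zero C, fun Z q _ hZ => (hZ (IsZero.of_epi q (isZero_zero C))).elim⟩
  haveI : (Q.{w} P).IsClosedUnderSubobjects := ⟨fun j _ h => Q_sub P j h⟩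
  haveI : (Q.{w} P).IsClosedUnderQuotients := ⟨fun q _ h => Q_quot P q h⟩
  haveI : (Q.{w} P).IsClosedUnderExtensions := ⟨fun {S} hS h₁ h₃ => by
    intro Z q hq hZ
    by_cases h0 : S.f ≫ q = 0
    · haveI := hS.epi_g
      have he : Epi (hS.exact.desc q h0) := by
        haveI : Epi (S.g ≫ hS.exact.desc q h0) := by rw [hS.exact.g_desc]; exact hq
        exact epi_of_epi S.g (hS.exact.desc q h0)
      exact h₃ _ he hZ
    · have hI : ¬ IsZero (image (S.f ≫ q)) := fun h => h0 (by
        rw [← image.fac (S.f ≫ q), h.eq_of_tgt (factorThruImage (S.f ≫ q)) 0, zero_comp])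
      obtain ⟨N, n, hn, hN, hNS⟩ := h₁ (factorThruImage (S.f ≫ q)) inferInstance hI
      exact ⟨N, n ≫ image.ι _, mono_comp _ _, hN, hNS⟩⟩
  refine ⟨{ }, fun J => ⟨?_⟩⟩
  rintro X ⟨h⟩ Z q hq hZ
  obtain ⟨j, hj⟩ : ∃ j, h.ι.app j ≫ q ≠ 0 := by
    by_contra hc
    push Not at hc
    have : q = 0 := h.isColimit.hom_ext fun j => by rw [comp_zero]; exact hc j
    exact hZ (IsZero.of_epi_eq_zero q this)
  have hI : ¬ IsZero (image (h.ι.app j ≫ q)) := fun h' => hj (by
    rw [← image.fac (h.ι.app j ≫ q), h'.eq_of_tgt (factorThruImage (h.ι.app j ≫ q)) 0, zero_comp])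
  obtain ⟨N, n, hn, hN, hNS⟩ := h.prop_diag_obj j (factorThruImage (h.ι.app j ≫ q)) inferInstance hI
  exact ⟨N, n ≫ image.ι _, mono_comp _ _, hN, hNS⟩

theorem le_Q : P ≤ Q.{w} P := fun _ hX Z q _ hZ =>
  ⟨Z, 𝟙 Z, inferInstance, hZ, subquot_quot P q (subquot_of_prop P hX)⟩

variable {P} {X : C}

theorem exists_larger (hX : Q.{w} P X) (A : Subobject X) (hA : A ≠ ⊤) :
    ∃ (B : Subobject X) (h : A < B), GabLoc.monoModSubquot.{w} P (Subobject.ofLE A B h.le) := by
  have hc : ¬ IsZero (cokernel A.arrow) := fun h0 => hA (by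
    haveI : Epi A.arrow := Preadditive.epi_of_isZero_cokernel _ h0
    haveI := isIso_of_mono_of_epi A.arrow
    exact (Subobject.isIso_arrow_iff_eq_top A).1 inferInstance)
  obtain ⟨N, n, hn, hN, hNS⟩ := hX (cokernel.π A.arrow) inferInstance hc
  let l : (A : C) ⟶ pullback (cokernel.π A.arrow) n :=
    pullback.lift A.arrow 0 (by rw [cokernel.condition, zero_comp])
  have hl : l ≫ pullback.fst _ _ = A.arrow := pullback.lift_fst _ _ _
  have hl2 : l ≫ pullback.snd _ _ = 0 := pullback.lift_snd _ _ _
  let B := Subobject.mk (pullback.fst (cokernel.π A.arrow) n)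
  have hle : A ≤ B := Subobject.le_mk_of_comm l hl
  have hne : A ≠ B := fun h => hN (by
    have hb : (pullback.fst (cokernel.π A.arrow) n) ≫ cokernel.π A.arrow = 0 := by
      have hle' : B ≤ A := h ▸ le_rfl
      rw [← Subobject.ofMkLE_arrow hle', Category.assoc, cokernel.condition, comp_zero]
    rw [pullback.condition] at hb
    exact IsZero.of_epi_eq_zero (pullback.snd (cokernel.π A.arrow) n) ((cancel_mono n).1 (hb.trans zero_comp.symm)))
  refine ⟨B, lt_of_le_of_ne hle hne, inferInstance, ?_⟩
  let s : (B : C) ⟶ N := (Subobject.underlyingIso _).hom ≫ pullback.snd (cokernel.π A.arrow) n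
  have hs : B.arrow ≫ cokernel.π A.arrow = s ≫ n := by
    rw [← Subobject.underlyingIso_hom_comp_eq_mk, Category.assoc, pullback.condition, ← Category.assoc]
  have hs0 : Subobject.ofLE A B hle ≫ s = 0 := by
    rw [← cancel_mono n, Category.assoc, ← hs, Subobject.ofLE_arrow_assoc, cokernel.condition, zero_comp]
  let φ : cokernel (Subobject.ofLE A B hle) ⟶ N := cokernel.desc _ s hs0
  haveI : Mono φ := Preadditive.mono_of_cancel_zero _ fun {T} a ha => by
    rw [← cancel_epi (pullback.fst a (cokernel.π (Subobject.ofLE A B hle))), comp_zero, pullback.condition]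
    set b := pullback.snd a (cokernel.π (Subobject.ofLE A B hle))
    have hb : b ≫ s = 0 := by
      rw [← cokernel.π_desc (Subobject.ofLE A B hle) s hs0, ← Category.assoc, ← pullback.condition,
        Category.assoc, ha, comp_zero]
    have hb2 : (b ≫ B.arrow) ≫ cokernel.π A.arrow = 0 := by
      rw [Category.assoc, hs, ← Category.assoc, hb, zero_comp]
    have : Abelian.monoLift A.arrow (b ≫ B.arrow) hb2 ≫ Subobject.ofLE A B hle = b := by
      rw [← cancel_mono B.arrow, Category.assoc, Subobject.ofLE_arrow, Abelian.monoLift_comp]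
    rw [← this, Category.assoc, cokernel.condition, comp_zero]
  exact subquot_sub P φ hNS

open scoped Classical in
noncomputable def larger (hX : Q.{w} P X) (A : Subobject X) : Subobject X :=
  if hA : A = ⊤ then ⊤ else (exists_larger hX A hA).choose

lemma larger_top (hX : Q.{w} P X) : larger hX (⊤ : Subobject X) = ⊤ := dif_pos rfl

lemma lt_larger (hX : Q.{w} P X) (A : Subobject X) (hA : A ≠ ⊤) : A < larger hX A := by
  rw [larger, dif_neg hA]
  exact (exists_larger hX A hA).choose_spec.choose

lemma le_larger (hX : Q.{w} P X) (A : Subobject X) : A ≤ larger hX A := by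
  by_cases hA : A = ⊤
  · subst hA; rw [larger_top]
  · exact (lt_larger hX A hA).le

lemma mono_mem (hX : Q.{w} P X) (A B : Subobject X) (hB : larger hX A = B) (h : A ≤ B) :
    GabLoc.monoModSubquot.{w} P (Subobject.ofLE A B h) := by
  by_cases hA : A = ⊤
  · subst hA
    rw [larger_top] at hB
    subst hB
    refine ⟨inferInstance, subquot_of_isZero P ?_⟩
    rw [Subobject.ofLE_refl]
    exact isZero_cokernel_of_epi _
  · rw [larger, dif_neg hA] at hB
    subst hB
    exact (exists_larger hX A hA).choose_spec.choose_spec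

section

variable (hX : Q.{w} P X) (J : Type w) [LinearOrder J] [OrderBot J] [SuccOrder J] [WellFoundedLT J]

@[simps]
noncomputable def functorToMonoOver : J ⥤ MonoOver X where
  obj j := MonoOver.mk (transfiniteIterate (larger hX) j (⊥ : Subobject X)).arrow
  map {j j'} f := MonoOver.homMk (Subobject.ofLE _ _
      (monotone_transfiniteIterate _ _ (le_larger hX) (leOfHom f)))

noncomputable abbrev functor : J ⥤ C :=
  functorToMonoOver hX J ⋙ MonoOver.forget _ ⋙ Over.forget _

set_option backward.defeqAttrib.useBackward true in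
instance : (functor hX J).IsWellOrderContinuous where
  nonempty_isColimit m hm := ⟨by
    have := hm.nonempty_Iio.to_subtype
    let c := (Set.principalSegIio m).cocone (functorToMonoOver hX J ⋙ MonoOver.forget _)
    have : Mono c.pt.hom := by dsimp [c]; infer_instance
    apply IsGrothendieckAbelian.isColimitMapCoconeOfSubobjectMkEqISup
      ((Set.principalSegIio m).monotone.functor ⋙ functorToMonoOver hX J) c
    dsimp [c]
    simp only [Subobject.mk_arrow]
    exact transfiniteIterate_limit (larger hX) ⊥ m hm⟩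

end

set_option backward.defeqAttrib.useBackward true in
set_option backward.isDefEq.respectTransparency false in
theorem mem_of_Q (hX : Q.{w} P X) :
    MorphismProperty.transfiniteCompositions.{w} (GabLoc.monoModSubquot.{w} P) (0 : (0 : C) ⟶ X) := by
  let κ := Order.succ (Cardinal.mk (Shrink.{w} (Subobject X)))
  haveI : Nonempty κ.ord.ToType := by simp [κ]
  letI := WellFoundedLT.toOrderBot κ.ord.ToType
  obtain ⟨j, hj⟩ := top_mem_range_transfiniteIterate (J := κ.ord.ToType) (larger hX) (⊥ : Subobject X)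
    (lt_larger hX) (larger_top hX) (fun h ↦ by
      have : HasCardinalLT (Subobject X) (Cardinal.mk κ.ord.ToType) := by
        rw [← hasCardinalLT_iff_of_equiv (equivShrink.{w} (Subobject X)).symm, hasCardinalLT_iff_cardinal_mk_lt]
        exact lt_of_lt_of_le (Order.lt_succ _) (by simp [κ])
      simpa [hasCardinalLT_iff_cardinal_mk_lt] using this.of_injective _ h)
  have hiso := (Subobject.isIso_arrow_iff_eq_top (transfiniteIterate (larger hX) j (⊥ : Subobject X))).2 hj
  have hT : (GabLoc.monoModSubquot.{w} P).TransfiniteCompositionOfShape (Set.Iic j)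
      ((functor hX κ.ord.ToType).map (homOfLE bot_le : ⊥ ⟶ j)) :=
    { F := (Set.initialSegIic j).monotone.functor ⋙ functor hX κ.ord.ToType
      isoBot := Iso.refl _
      incl :=
        { app k := (functor hX κ.ord.ToType).map (homOfLE k.2)
          naturality k k' h := by simp [MonoOver.forget] }
      isColimit := colimitOfDiagramTerminal isTerminalTop _
      map_mem k hk := mono_mem hX _ _ (by
        show larger hX (transfiniteIterate (larger hX) k.1 ⊥) = transfiniteIterate (larger hX) (Order.succ k).1 ⊥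
        rw [Set.Iic.succ_eq_of_not_isMax hk, transfiniteIterate_succ _ _ _ (Set.not_isMax_coe _ hk)]) _ }
  refine (MorphismProperty.transfiniteCompositions_iff _ _).2 ⟨_, _, _, _, _, (hT.ofArrowIso
    (Arrow.isoMk ((Subobject.isoOfEq _ _ (transfiniteIterate_bot _ _)) ≪≫ Subobject.botCoeIsoZero)
      (@asIso _ _ _ _ (transfiniteIterate (larger hX) j (⊥ : Subobject X)).arrow hiso) ?_)).mem⟩
  exact (IsZero.of_iso (isZero_zero C)
    (Subobject.isoOfEq _ _ (transfiniteIterate_bot _ _) ≪≫ Subobject.botCoeIsoZero)).eq_of_src _ _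

theorem locClosure_of_mem
    (h : MorphismProperty.transfiniteCompositions.{w} (GabLoc.monoModSubquot.{w} P) (0 : (0 : C) ⟶ X)) :
    GabLoc.locClosure.{w} P X := by
  intro R hR hPR
  haveI := hR.isSerreClass
  obtain ⟨J, _, _, _, _, ⟨hT⟩⟩ := (MorphismProperty.transfiniteCompositions_iff _ _).1 h
  have hco : ∀ {K : Type w} (Z : K → C), (∀ k, R (Z k)) → R (∐ Z) := fun Z hZ => by
    haveI := hR.isClosedUnderCoproducts
    exact R.prop_colimit _ fun ⟨k⟩ => hZ k
  have hS0 : ∀ {A : C}, GabLoc.subquotCoprod.{w} P A → R A := by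
    rintro A ⟨K, Z, hZ, B, i, p, hi, hp⟩
    exact R.prop_of_epi p (R.prop_of_mono i (hco Z fun k => hPR _ (hZ k)))
  have hcol : ∀ {K : Type w} [Category.{w} K] (D : K ⥤ C) (c : Cocone D), IsColimit c →
      (∀ k, R (D.obj k)) → R c.pt := by
    intro K _ D c hc hD
    haveI : Epi (Sigma.desc c.ι.app) := ⟨fun g g' e => hc.hom_ext fun k => by
      simpa using Sigma.ι (fun k => D.obj k) k ≫= e⟩
    exact R.prop_of_epi (Sigma.desc c.ι.app) (hco _ hD)
  have hall : ∀ j, R (hT.F.obj j) := by
    intro j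
    induction j using SuccOrder.limitRecOn with
    | isMin j hj =>
      obtain rfl := hj.eq_bot
      exact R.prop_of_iso hT.isoBot.symm (R.prop_of_isZero (isZero_zero C))
    | succ j hj ih =>
      obtain ⟨hm, hs⟩ := hT.map_mem j hj
      haveI := hm
      exact R.prop_X₂_of_shortExact
        (S := ShortComplex.mk _ _ (cokernel.condition (hT.F.map (homOfLE (Order.le_succ j)))))
        { exact := ShortComplex.exact_of_g_is_cokernel _ (cokernelIsCokernel _)
          mono_f := hm
          epi_g := inferInstanceAs (Epi (cokernel.π _)) } ih (hS0 hs)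
    | isSuccLimit j hj ih =>
      exact hcol _ _ (hT.F.isColimitOfIsWellOrderContinuous j hj) fun k => ih k.1 k.2
  exact hcol _ _ hT.isColimit hall

theorem iff_mem :
    GabLoc.locClosure.{w} P X ↔
      MorphismProperty.transfiniteCompositions.{w} (GabLoc.monoModSubquot.{w} P) (0 : (0 : C) ⟶ X) :=
  ⟨fun h => mem_of_Q (h _ (isLocalizing_Q P) (le_Q P)), locClosure_of_mem⟩

end GabLocLib.Filtration
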